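import Groth.Agent.ConeLine13.PtMap
import Groth.Agent.ProjLib.MapLocal

/-!
# `Proj.map` is unchanged by twisting a graded map by degrees
-/

set_option autoImplicit false
set_option linter.unusedSectionVars false

universe u

open CategoryTheory AlgebraicGeometry HomogeneousLocalization

namespace Groth.Agent.ConeLine13

variable {σ A : Type u} [CommRing A] [SetLike σ A] [AddSubgroupClass σ A] {𝒜 : ℕ → σ} [GradedRing 𝒜]
variable {τ A' : Type u} [CommRing A'] [SetLike τ A'] [AddSubgroupClass τ A'] {𝒜' : ℕ → τ} [GradedRing 𝒜']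

/-- Twisting a graded map by the powers of an element does not change the map on `Proj`. -/
theorem map_eq_of_scale (ψ ψ' : 𝒜 →+*ᵍ 𝒜')
    (hψ : (HomogeneousIdeal.irrelevant 𝒜') ≤ (HomogeneousIdeal.irrelevant 𝒜).map ψ)
    (hψ' : (HomogeneousIdeal.irrelevant 𝒜') ≤ (HomogeneousIdeal.irrelevant 𝒜).map ψ') (v : A') (hv : IsUnit v)
    (h : ∀ (k : ℕ) (y : A), y ∈ 𝒜 k → ψ' y = v ^ k * ψ y) : Proj.map ψ hψ = Proj.map ψ' hψ' := by
  refine Scheme.hom_ext_of_forall _ _ fun p => ?_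
  obtain ⟨d, hd, t, ht, htp⟩ : ∃ d, 0 < d ∧ ∃ t ∈ 𝒜 d, ψ t ∉ p.asHomogeneousIdeal := by
    by_contra H
    push Not at H
    refine p.not_irrelevant_le (hψ.trans ?_)
    rw [HomogeneousIdeal.map_le_iff_le_comap]
    exact ProjLib.irrelevant_le_of_homogeneous _ fun n hn b hb => H n hn b hb
  have e1 : ψ' t = v ^ d * ψ t := h d t ht
  let x := ψ t * ψ' t
  have hx : x ∈ 𝒜' (d + d) := SetLike.mul_mem_graded (ψ.2 ht) (ψ'.2 ht)
  have hdd : 0 < d + d := Nat.add_pos_left hd d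
  refine ⟨(Proj.awayι 𝒜' x hx hdd).opensRange, ?_, ?_⟩
  · rw [Proj.opensRange_awayι, Proj.mem_basicOpen]
    intro hmem
    rcases p.isPrime.mem_or_mem hmem with h1 | h1
    · exact htp h1
    · rcases p.isPrime.mem_or_mem (e1 ▸ h1 : v ^ d * ψ t ∈ p.asHomogeneousIdeal.toIdeal) with h2 | h2
      · exact p.isPrime.ne_top (Ideal.eq_top_of_isUnit_mem _ h2 (hv.pow d))
      · exact htp h2
  rw [← cancel_epi (Proj.awayι 𝒜' x hx hdd).isoOpensRange.hom, Scheme.Hom.isoOpensRange_hom_ι_assoc,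
    Scheme.Hom.isoOpensRange_hom_ι_assoc]
  have a1 := Proj.SpecMap_awayMap_awayι 𝒜' (ψ.2 ht) hd (ψ'.2 ht) (rfl : x = ψ t * ψ' t)
  have a2 := Proj.SpecMap_awayMap_awayι 𝒜' (ψ'.2 ht) hd (ψ.2 ht) (mul_comm (ψ t) (ψ' t))
  conv_lhs => rw [← a1, Category.assoc]
  conv_rhs => rw [← a2, Category.assoc]
  erw [Proj.awayι_comp_map ψ hψ hd t ht, Proj.awayι_comp_map ψ' hψ' hd t ht]
  rw [← Spec.map_comp_assoc, ← Spec.map_comp_assoc]
  refine congrArg (fun g => Spec.map g ≫ Proj.awayι 𝒜 t ht hd) ?_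
  ext q
  obtain ⟨k, y, hy, rfl⟩ := Away.mk_surjective 𝒜 ht q
  simp only [CommRingCat.hom_comp, CommRingCat.hom_ofHom, RingHom.comp_apply]
  erw [Away.map_mk, Away.map_mk, val_awayMap_mk, val_awayMap_mk]
  refine congrArg (fun w => Localization.mk w _) ?_
  show ψ y * ψ' t ^ k = ψ' y * ψ t ^ k
  rw [h _ y hy, e1, mul_pow, ← pow_mul, smul_eq_mul, mul_comm d k]
  ring

end Groth.Agent.ConeLine13
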