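import Groth.Agent.ConeLine13.Pair
import Groth.Agent.ConeLine13.Scale
import Groth.Agent.RelConeLib.Infinity

/-!
# Exchanging zero and infinity over a trivialising affine open
-/

set_option autoImplicit false
set_option linter.unusedSectionVars false
set_option backward.isDefEq.respectTransparency false
set_option maxHeartbeats 1000000

universe u

open CategoryTheory AlgebraicGeometry Opposite TopologicalSpace HomogeneousLocalization
open Groth.Agent.Coherent Groth.Agent.PicLib Groth.Agent.AmpleLib Groth.Agent.RelConeLib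
open scoped HomogeneousIdeal

namespace Groth.Agent.ConeLine13

variable {Y : Scheme.{u}} {L L' : Y.Modules} [Coh.IsQCoh L] [Coh.IsQCoh L'] {𝒮 𝒮h 𝒮' 𝒮h' : RelProj.QCGrAlg Y}
  {j : L ⟶ 𝒮.toModule} {ι : 𝒮.toQCAlg ⟶ 𝒮h.toQCAlg} {z : 𝒮h.presheaf.obj (op ⊤)}
  {j' : L' ⟶ 𝒮'.toModule} {ι' : 𝒮'.toQCAlg ⟶ 𝒮h'.toQCAlg} {z' : 𝒮h'.presheaf.obj (op ⊤)}

variable (j ι z j' ι' z') in
/-- A graded map exchanging the two coordinates. -/
structure FlipData (U : Y.Opens) (hU : IsAffineOpen U) (ℓ : Γ(L, U)) (ℓ' : Γ(L', U)) where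
  /-- the graded map -/
  ψ : 𝒮h'.deg U hU →+*ᵍ 𝒮h.deg U hU
  str : ∀ r, ψ ((𝒮h'.str.app (op U)).hom r) = (𝒮h.str.app (op U)).hom r
  lin' : ψ (lin j' ι' U ℓ') = RelCone.restrictTop 𝒮h z U
  infty : ψ (RelCone.restrictTop 𝒮h' z' U) = lin j ι U ℓ

variable (hS : RelProj.IsGrSymAlg L 𝒮 j) (hz : RelCone.IsPolyOver 𝒮 𝒮h ι z)
  (hS' : RelProj.IsGrSymAlg L' 𝒮' j') (hz' : RelCone.IsPolyOver 𝒮' 𝒮h' ι' z')

include hS hz hS' hz' in
theorem exists_flipData {U : Y.Opens} (hU : IsAffineOpen U) (ℓ : Γ(L, U)) {ℓ' : Γ(L', U)}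
    (hℓ' : IsGen L' U ℓ') : Nonempty (FlipData j ι z j' ι' z' U hU ℓ ℓ') := by
  obtain ⟨f, f0, f1, f2⟩ := exists_hom_h hS' hz' hU hℓ' (𝒮h.str.app (op U)).hom
    (RelCone.restrictTop 𝒮h z U) (lin j ι U ℓ)
  refine ⟨⟨{ toRingHom := f, map_mem := ?_ }, f0, f1, f2⟩⟩
  intro k y hy
  obtain ⟨c, rfl⟩ := exists_deg_h_eq hS' hz' hU hℓ' hy
  rw [map_sum]
  refine sum_mem fun i hi => ?_
  rw [map_mul, map_mul, map_pow, map_pow, f0, f1, f2]
  have h := SetLike.mul_mem_graded (A := 𝒮h.deg U hU)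
    (SetLike.mul_mem_graded (A := 𝒮h.deg U hU) (𝒮h.str_mem U hU (c i)) (SetLike.pow_mem_graded i (hz.deg_z U hU)))
    (SetLike.pow_mem_graded (A := 𝒮h.deg U hU) (k - i) (lin_mem hS hz hU ℓ))
  rw [Finset.mem_range] at hi
  simp only [smul_eq_mul, mul_one, zero_add] at h
  rwa [show i + (k - i) = k by omega] at h

variable {U : Y.Opens} {hU : IsAffineOpen U} {ℓ : Γ(L, U)} {ℓ' : Γ(L', U)}

include hS hz in
theorem FlipData.comp_eq_id (hℓ : IsGen L U ℓ) (F : FlipData j ι z j' ι' z' U hU ℓ ℓ')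
    (G : FlipData j' ι' z' j ι z U hU ℓ' ℓ) : F.ψ.comp G.ψ = GradedRingHom.id _ := by
  have h : F.ψ.toRingHom.comp G.ψ.toRingHom = RingHom.id _ := by
    refine hom_ext_h hS hz hU hℓ (fun r => ?_) ?_ ?_
    · show F.ψ (G.ψ _) = _
      rw [G.str, F.str]; rfl
    · show F.ψ (G.ψ _) = _
      rw [G.lin', F.infty]; rfl
    · show F.ψ (G.ψ _) = _
      rw [G.infty, F.lin']; rfl
  exact GradedRingHom.ext fun x => RingHom.congr_fun h x

theorem le_map_of_leftInv {σ A : Type u} [CommRing A] [SetLike σ A] [AddSubgroupClass σ A] {𝒜 : ℕ → σ}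
    [GradedRing 𝒜] {τ B : Type u} [CommRing B] [SetLike τ B] [AddSubgroupClass τ B] {ℬ : ℕ → τ} [GradedRing ℬ]
    (ψ : 𝒜 →+*ᵍ ℬ) (φ : ℬ →+*ᵍ 𝒜) (h : ψ.comp φ = GradedRingHom.id _) : ℬ₊ ≤ (𝒜₊).map ψ := by
  refine ProjLib.irrelevant_le_of_homogeneous _ fun n hn b hb => ?_
  have e : ψ (φ b) = b := DFunLike.congr_fun h b
  rw [← e]
  exact Ideal.mem_map_of_mem _ (ProjLib.mem_irrelevant_of_pos 𝒜 hn (φ.map_mem hb))

include hS hz hS' hz' in
theorem FlipData.irr (hℓ : IsGen L U ℓ) (F : FlipData j ι z j' ι' z' U hU ℓ ℓ') :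
    (𝒮h.deg U hU)₊ ≤ ((𝒮h'.deg U hU)₊).map F.ψ :=
  le_map_of_leftInv F.ψ _ (F.comp_eq_id hS hz hℓ (Classical.choice (exists_flipData hS' hz' hS hz hU ℓ' hℓ)))

include hS hz in
/-- The two coordinates have no common zero. -/
theorem not_both (hℓ : IsGen L U ℓ) (y : Proj (𝒮h.deg U hU))
    (h1 : lin j ι U ℓ ∈ y.asHomogeneousIdeal) (h2 : RelCone.restrictTop 𝒮h z U ∈ y.asHomogeneousIdeal) : False := by
  refine y.not_irrelevant_le (ProjLib.irrelevant_le_of_homogeneous _ fun n hn b hb => ?_)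
  obtain ⟨c, rfl⟩ := exists_deg_h_eq hS hz hU hℓ hb
  refine Ideal.sum_mem y.asHomogeneousIdeal.toIdeal fun i hi => ?_
  rcases Nat.eq_zero_or_pos i with rfl | hi0
  · exact Ideal.mul_mem_left _ _ (Ideal.pow_mem_of_mem _ h2 _ (by omega))
  · exact Ideal.mul_mem_right _ _ (Ideal.mul_mem_left _ _ (Ideal.pow_mem_of_mem _ h1 _ hi0))

section range

variable {PC : Scheme.{u}} {pC : PC ⟶ Y}
  {chartC : ∀ (U : Y.Opens) (hU : IsAffineOpen U), (((pC ⁻¹ᵁ U : PC.Opens) : Scheme.{u}) ≅ Proj (𝒮h.deg U hU))}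
  (hPC : RelProj.IsRelProj 𝒮h pC chartC) {i : 𝒮.toQCAlg.spec ⟶ PC} (hi : RelCone.IsConeImm 𝒮 hz pC chartC i)
  {aug : 𝒮.toQCAlg ⟶ RelSpec.QCAlg.unit Y} (haug : RelCone.IsAugmentation 𝒮 aug)
  {ε : Y ⟶ 𝒮.toQCAlg.spec} (hε : RelCone.IsVertex 𝒮 aug ε)

include hz in
theorem awayZ_spec (q : Away (𝒮h.deg U hU) (RelConeLib.zAt 𝒮h z U)) (k : ℕ)
    (x : 𝒮.presheaf.obj (op U)) (_ : x ∈ 𝒮.deg U hU k)
    (hq : q.val = Localization.mk ((ι.hom.app (op U)).hom x)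
      ⟨RelConeLib.zAt 𝒮h z U ^ k, pow_mem (Submonoid.mem_powers (RelConeLib.zAt 𝒮h z U)) k⟩) :
    (CommRingCat.ofHom (hz.awayZToBase U hU)).hom q = x :=
  (hz.awayZToBase_of_val U hU q _ k hq).trans (hz.evalOne_ι U hU x)

include hPC hi in
theorem mem_range_imm_iff (y : Proj (𝒮h.deg U hU)) :
    RelProj.emb pC chartC U hU y ∈ Set.range i ↔ RelCone.restrictTop 𝒮h z U ∉ y.asHomogeneousIdeal :=
  RelConeLib.mem_range_coneImm_iff 𝒮 𝒮h ι hz.graded z (fun V hV => hz.deg_z V hV) (fun V hV => hz.bij V hV)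
    pC chartC (fun V hV => CommRingCat.ofHom (hz.awayZToBase V hV))
    (fun V hV => awayZ_spec hz (hU := hV)) hPC i hi U hU y

include hS haug in
theorem ker_aug_eq (hU : IsAffineOpen U) (hℓ : IsGen L U ℓ) (q : Spec (𝒮.presheaf.obj (op U))) :
    q ∈ Set.range (Spec.map (aug.hom.app (op U))) ↔ (show 𝒮.presheaf.obj (op U) from j.app U ℓ) ∈ q.asIdeal := by
  let t : 𝒮.presheaf.obj (op U) := j.app U ℓ
  have ht : (aug.hom.app (op U)).hom t = 0 := haug U hU 0 t (hS.2 U hU ℓ)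
  constructor
  · rintro ⟨p, rfl⟩
    show (aug.hom.app (op U)).hom t ∈ p.asIdeal
    rw [ht]
    exact p.asIdeal.zero_mem
  · intro hq
    have hc : ∀ r, (aug.hom.app (op U)).hom ((𝒮.str.app (op U)).hom r) = r := fun r =>
      ConcreteCategory.congr_hom (NatTrans.congr_app aug.comm (op U)) r
    let mk := Ideal.Quotient.mk q.asIdeal
    have h : (mk.comp (𝒮.str.app (op U)).hom).comp (aug.hom.app (op U)).hom = mk := by
      refine SymAlgLib.sectionsHom_ext hS.1 hU (fun r => ?_) fun e => ?_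
      · exact congrArg (fun r => mk ((𝒮.str.app (op U)).hom r)) (hc r)
      · have he := hℓ.coef_spec le_rfl e
        rw [resM_self] at he
        show mk ((𝒮.str.app (op U)).hom ((aug.hom.app (op U)).hom (j.app U e))) = mk (j.app U e)
        rw [← he, Scheme.Modules.Hom.app_smul]
        show mk ((𝒮.str.app (op U)).hom ((aug.hom.app (op U)).hom (_ * t))) = mk (_ * t)
        rw [map_mul, ht, mul_zero, map_zero, map_zero, map_mul, show mk t = 0 from Ideal.Quotient.eq_zero_iff_mem.2 hq,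
          mul_zero]
    refine ⟨⟨q.asIdeal.comap (𝒮.str.app (op U)).hom, Ideal.IsPrime.comap _⟩, PrimeSpectrum.ext (Ideal.ext fun a => ?_)⟩
    show (𝒮.str.app (op U)).hom ((aug.hom.app (op U)).hom a) ∈ q.asIdeal ↔ a ∈ q.asIdeal
    rw [← Ideal.Quotient.eq_zero_iff_mem, ← Ideal.Quotient.eq_zero_iff_mem]
    rw [show Ideal.Quotient.mk q.asIdeal ((𝒮.str.app (op U)).hom ((aug.hom.app (op U)).hom a)) = mk a from
      RingHom.congr_fun h a]

include hS hPC hi haug hε in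
theorem mem_range_zero_iff (hℓ : IsGen L U ℓ) (y : Proj (𝒮h.deg U hU)) :
    RelProj.emb pC chartC U hU y ∈ Set.range (ε ≫ i) ↔ lin j ι U ℓ ∈ y.asHomogeneousIdeal := by
  have hpt : ∀ q, lin j ι U ℓ ∈ (Proj.awayι (𝒮h.deg U hU) _ (hz.deg_z U hU) one_pos
      (Spec.map (CommRingCat.ofHom (hz.awayZToBase U hU)) q)).asHomogeneousIdeal ↔
        (show 𝒮.presheaf.obj (op U) from j.app U ℓ) ∈ q.asIdeal := fun q =>
    mem_coneImm_point_iff (RelProj.gradedHomAt ι hz.graded U hU) (hz.deg_z U hU)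
      (CommRingCat.ofHom (hz.awayZToBase U hU)) (awayZ_spec hz) q one_pos (hS.2 U hU ℓ)
  have hover : i ≫ pC = 𝒮.toQCAlg.π :=
    RelConeLib.coneImm_over 𝒮 𝒮h ι hz.graded z (fun V hV => hz.deg_z V hV) (fun V hV => hz.bij V hV)
      pC chartC (fun V hV => CommRingCat.ofHom (hz.awayZToBase V hV))
      (fun V hV => awayZ_spec hz (hU := hV)) hPC i hi
  constructor
  · rintro ⟨s, hs⟩
    have hsU : s ∈ U := by
      have h := RelConeLib.emb_mem 𝒮h pC chartC U hU y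
      rw [← hs, ← Scheme.Hom.comp_apply, Category.assoc, hover, hε.comp_π] at h
      exact h
    obtain ⟨p, rfl⟩ : s ∈ Set.range hU.fromSpec := by rw [hU.range_fromSpec]; exact hsU
    have hy : y = Proj.awayι (𝒮h.deg U hU) _ (hz.deg_z U hU) one_pos
        (Spec.map (CommRingCat.ofHom (hz.awayZToBase U hU)) (Spec.map (aug.hom.app (op U)) p)) := by
      refine (RelProj.emb pC chartC U hU).isOpenEmbedding.injective ?_
      rw [← hs, ← Scheme.Hom.comp_apply hU.fromSpec, ← Category.assoc, hε.chart U hU, Category.assoc, hi U hU]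
      rfl
    rw [hy, hpt]
    exact (ker_aug_eq hS haug hU hℓ _).1 ⟨p, rfl⟩
  · intro hy
    obtain ⟨c, hc⟩ := (mem_range_imm_iff hz hPC hi y).2 fun h => not_both hS hz hℓ y hy h
    have hπ : 𝒮.toQCAlg.π c ∈ U := by
      rw [← hover, Scheme.Hom.comp_apply, hc]
      exact RelConeLib.emb_mem 𝒮h pC chartC U hU y
    obtain ⟨q, rfl⟩ := RelSpecLib.exists_chart_eq _ hU c hπ
    have hyq : y = Proj.awayι (𝒮h.deg U hU) _ (hz.deg_z U hU) one_pos
        (Spec.map (CommRingCat.ofHom (hz.awayZToBase U hU)) q) := by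
      refine (RelProj.emb pC chartC U hU).isOpenEmbedding.injective ?_
      rw [← hc, ← Scheme.Hom.comp_apply _ i, hi U hU]
      rfl
    rw [hyq, hpt] at hy
    obtain ⟨p, rfl⟩ := (ker_aug_eq hS haug hU hℓ q).2 hy
    refine ⟨hU.fromSpec p, ?_⟩
    rw [← hc, ← Scheme.Hom.comp_apply, ← Category.assoc, hε.chart U hU]
    rfl

end range

end Groth.Agent.ConeLine13
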