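import Groth.Agent.ConeLine13.Flip

/-!
# Exchanging zero and infinity of the projective closure of a line bundle
-/

set_option autoImplicit false
set_option linter.unusedSectionVars false
set_option backward.isDefEq.respectTransparency false
set_option maxHeartbeats 1000000

universe u

open CategoryTheory CategoryTheory.Limits AlgebraicGeometry Opposite TopologicalSpace HomogeneousLocalization
open Groth.Agent.Coherent Groth.Agent.PicLib Groth.Agent.AmpleLib Groth.Agent.RelConeLib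
open scoped HomogeneousIdeal

namespace Groth.Agent.ConeLine13

section local_glue

variable {S P Z : Scheme.{u}} (p : P ⟶ S) {J : Type u} (W : J → S.affineOpens)
  (hcov : ∀ s : S, ∃ k, s ∈ (W k).1) (F : ∀ k, ((p ⁻¹ᵁ (W k).1).toScheme ⟶ Z))
  (hF : ∀ k l (s : S), s ∈ (W k).1 → s ∈ (W l).1 → ∃ (V : S.Opens) (_ : s ∈ V) (hk : V ≤ (W k).1) (hl : V ≤ (W l).1),
    P.homOfLE (p.preimage_mono hk) ≫ F k = P.homOfLE (p.preimage_mono hl) ≫ F l)

include hcov hF in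
theorem exists_glue_preimage : ∃ f : P ⟶ Z, ∀ k, (p ⁻¹ᵁ (W k).1).ι ≫ f = F k := by
  let 𝒰 : P.OpenCover := P.openCoverOfIsOpenCover (fun k => p ⁻¹ᵁ (W k).1) (by
    show iSup _ = ⊤
    rw [eq_top_iff]
    intro x _
    obtain ⟨k, hk⟩ := hcov (p x)
    exact Opens.mem_iSup.mpr ⟨k, hk⟩)
  refine ⟨𝒰.glueMorphisms F fun k l => ?_, fun k => 𝒰.ι_glueMorphisms _ _ k⟩
  refine Scheme.hom_ext_of_forall _ _ fun t => ?_
  let a := pullback.fst (𝒰.f k) (𝒰.f l)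
  let b := pullback.snd (𝒰.f k) (𝒰.f l)
  have hab : a ≫ (p ⁻¹ᵁ (W k).1).ι = b ≫ (p ⁻¹ᵁ (W l).1).ι := pullback.condition
  let m := a ≫ (p ⁻¹ᵁ (W k).1).ι
  have hk : p (m t) ∈ (W k).1 := (a t).2
  have hl : p (m t) ∈ (W l).1 := by
    simp only [m, hab]
    exact (b t).2
  obtain ⟨V, htV, hVk, hVl, hV⟩ := hF k l _ hk hl
  refine ⟨m ⁻¹ᵁ p ⁻¹ᵁ V, htV, ?_⟩
  let c := m ∣_ (p ⁻¹ᵁ V)
  have hc : c ≫ (p ⁻¹ᵁ V).ι = (m ⁻¹ᵁ p ⁻¹ᵁ V).ι ≫ m := morphismRestrict_ι _ _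
  have h1 : (m ⁻¹ᵁ p ⁻¹ᵁ V).ι ≫ a = c ≫ P.homOfLE (p.preimage_mono hVk) := by
    rw [← cancel_mono (p ⁻¹ᵁ (W k).1).ι, Category.assoc, Category.assoc, Scheme.homOfLE_ι, hc]
  have h2 : (m ⁻¹ᵁ p ⁻¹ᵁ V).ι ≫ b = c ≫ P.homOfLE (p.preimage_mono hVl) := by
    rw [← cancel_mono (p ⁻¹ᵁ (W l).1).ι, Category.assoc, Category.assoc, Scheme.homOfLE_ι, hc, hab.symm]
  show (m ⁻¹ᵁ p ⁻¹ᵁ V).ι ≫ a ≫ F k = (m ⁻¹ᵁ p ⁻¹ᵁ V).ι ≫ b ≫ F l
  rw [reassoc_of% h1, reassoc_of% h2, hV]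

end local_glue

variable {Y PC PC' : Scheme.{u}} {L L' : Y.Modules} [Coh.IsQCoh L] [Coh.IsQCoh L'] {𝒮 𝒮h 𝒮' 𝒮h' : RelProj.QCGrAlg Y}
  {j : L ⟶ 𝒮.toModule} {ι : 𝒮.toQCAlg ⟶ 𝒮h.toQCAlg} {z : 𝒮h.presheaf.obj (op ⊤)}
  {j' : L' ⟶ 𝒮'.toModule} {ι' : 𝒮'.toQCAlg ⟶ 𝒮h'.toQCAlg} {z' : 𝒮h'.presheaf.obj (op ⊤)}
  {e : CohB1.tensorMod L L' ≅ Coh.structureModule Y} {pC : PC ⟶ Y}
  {chartC : ∀ (U : Y.Opens) (hU : IsAffineOpen U), (((pC ⁻¹ᵁ U : PC.Opens) : Scheme.{u}) ≅ Proj (𝒮h.deg U hU))}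
  {pC' : PC' ⟶ Y}
  {chartC' : ∀ (U : Y.Opens) (hU : IsAffineOpen U), (((pC' ⁻¹ᵁ U : PC'.Opens) : Scheme.{u}) ≅ Proj (𝒮h'.deg U hU))}
  (hS : RelProj.IsGrSymAlg L 𝒮 j) (hz : RelCone.IsPolyOver 𝒮 𝒮h ι z) (hPC : RelProj.IsRelProj 𝒮h pC chartC)
  (hS' : RelProj.IsGrSymAlg L' 𝒮' j') (hz' : RelCone.IsPolyOver 𝒮' 𝒮h' ι' z')
  (hPC' : RelProj.IsRelProj 𝒮h' pC' chartC')

variable (pC chartC pC' chartC') in
/-- The flip over a trivialising affine open. -/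
noncomputable def flipPiece {U : Y.Opens} {hU : IsAffineOpen U} {ℓ : Γ(L, U)} {ℓ' : Γ(L', U)} (hℓ : IsGen L U ℓ)
    (F : FlipData j ι z j' ι' z' U hU ℓ ℓ') : (pC ⁻¹ᵁ U).toScheme ⟶ PC' :=
  (chartC U hU).hom ≫ Proj.map F.ψ (F.irr hS hz hS' hz' hℓ) ≫ RelProj.emb pC' chartC' U hU

include hPC hPC' in
theorem flipPiece_res {U : Y.Opens} (hU : IsAffineOpen U) {ℓ : Γ(L, U)} {ℓ' : Γ(L', U)} (P : Paired e U ℓ ℓ')
    (F : FlipData j ι z j' ι' z' U hU ℓ ℓ') (r : Γ(Y, U)) {V : Y.Opens} (hV : IsAffineOpen V) (hle : V ≤ U)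
    (hVr : Y.basicOpen r = V) {m : Γ(L, V)} {m' : Γ(L', V)} (Q : Paired e V m m')
    (G : FlipData j ι z j' ι' z' V hV m m') :
    PC.homOfLE (pC.preimage_mono hle) ≫ flipPiece pC chartC pC' chartC' hS hz hS' hz' P.gen F =
      flipPiece pC chartC pC' chartC' hS hz hS' hz' Q.gen G := by
  subst hVr
  let resh := 𝒮h.res hU hV hle
  let resh' := 𝒮h'.res hU hV hle
  let a : Γ(Y, Y.basicOpen r) := Q.gen.coef le_rfl (resM L hle ℓ)
  let v : 𝒮h.presheaf.obj (op (Y.basicOpen r)) := (𝒮h.str.app (op (Y.basicOpen r))).hom a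
  have hm' : m' = a • resM L' hle ℓ' := (P.restrict hle).change Q
  have ha : a • m = resM L hle ℓ := by
    have := Q.gen.coef_spec le_rfl (resM L hle ℓ); rwa [resM_self] at this
  have hv : IsUnit v := (Q.gen.isUnit_coef (P.restrict hle).gen).map _
  have hr : ∀ w, resh w = (𝒮h.presheaf.map (homOfLE hle).op).hom w := fun w => rfl
  have hr' : ∀ w, resh' w = (𝒮h'.presheaf.map (homOfLE hle).op).hom w := fun w => rfl
  let f := resh.comp F.ψ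
  let g := G.ψ.comp resh'
  have f0 : ∀ q, f ((𝒮h'.str.app (op U)).hom q) = g ((𝒮h'.str.app (op U)).hom q) := fun q => by
    show resh (F.ψ _) = G.ψ (resh' _)
    rw [hr', str_res 𝒮h'.toQCAlg hle q, G.str, F.str, hr]
    exact str_res 𝒮h.toQCAlg hle q
  have f1 : f (lin j' ι' U ℓ') = v * g (lin j' ι' U ℓ') := by
    show resh (F.ψ _) = v * G.ψ (resh' _)
    rw [F.lin', hr', lin_res hle ℓ', hr, restrictTop_res 𝒮h z hle]
    have h := G.lin'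
    have e1 : lin j' ι' (Y.basicOpen r) m' =
        (𝒮h'.str.app (op (Y.basicOpen r))).hom a * lin j' ι' (Y.basicOpen r) (resM L' hle ℓ') :=
      (congrArg (lin j' ι' (Y.basicOpen r)) hm').trans (lin_smul a _)
    rw [e1, map_mul, G.str] at h
    exact h.symm
  have f2 : f (RelCone.restrictTop 𝒮h' z' U) = v * g (RelCone.restrictTop 𝒮h' z' U) := by
    show resh (F.ψ _) = v * G.ψ (resh' _)
    rw [F.infty, hr', restrictTop_res 𝒮h' z' hle, G.infty, hr, lin_res hle ℓ, ← ha, lin_smul]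
  have key := map_eq_of_scale g f
    (HomogeneousIdeal.irrelevant_le_map_comp (𝒮h'.irrelevant_le_map U hU r) (G.irr hS hz hS' hz' Q.gen))
    (HomogeneousIdeal.irrelevant_le_map_comp (F.irr hS hz hS' hz' P.gen) (𝒮h.irrelevant_le_map U hU r)) v hv
    fun k y hy => deg_scale (f := f.toRingHom) (g := g.toRingHom) hS' hz' hU P.gen' v f0 f1 f2 k y hy
  rw [Proj.map_comp (hf := 𝒮h'.irrelevant_le_map U hU r) (hg := G.irr hS hz hS' hz' Q.gen),
    Proj.map_comp (hf := F.irr hS hz hS' hz' P.gen) (hg := 𝒮h.irrelevant_le_map U hU r)] at key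
  rw [flipPiece, flipPiece, ← Category.assoc, hPC.chart_res U hU r, Category.assoc]
  refine congrArg ((chartC _ hV).hom ≫ ·) ?_
  rw [← Category.assoc, ← key, Category.assoc, RelProj.map_res_emb hPC' U hU r]

include hS hz hPC hS' hz' hPC' in
theorem exists_flip (hL : PicF.IsInvertible L) (hL' : PicF.IsInvertible L')
    (e : CohB1.tensorMod L L' ≅ Coh.structureModule Y)
    {aug : 𝒮.toQCAlg ⟶ RelSpec.QCAlg.unit Y} (haug : RelCone.IsAugmentation 𝒮 aug)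
    {ε : Y ⟶ 𝒮.toQCAlg.spec} (hε : RelCone.IsVertex 𝒮 aug ε)
    {i : 𝒮.toQCAlg.spec ⟶ PC} (hi : RelCone.IsConeImm 𝒮 hz pC chartC i)
    {aug' : 𝒮'.toQCAlg ⟶ RelSpec.QCAlg.unit Y} (haug' : RelCone.IsAugmentation 𝒮' aug')
    {ε' : Y ⟶ 𝒮'.toQCAlg.spec} (hε' : RelCone.IsVertex 𝒮' aug' ε')
    {i' : 𝒮'.toQCAlg.spec ⟶ PC'} (hi' : RelCone.IsConeImm 𝒮' hz' pC' chartC' i') :
    ∃ Φ : PC ≅ PC', Φ.hom ≫ pC' = pC ∧
      Φ.hom.base '' Set.range (ε ≫ i).base = (Set.range i'.base)ᶜ ∧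
        Φ.hom.base '' (Set.range i.base)ᶜ = Set.range (ε' ≫ i').base := by
  classical
  let J := {W : Y.affineOpens // ∃ (ℓ : Γ(L, W.1)) (ℓ' : Γ(L', W.1)), Paired e W.1 ℓ ℓ'}
  choose ℓ ℓ' hP using fun W : J => W.2
  let F : ∀ W : J, FlipData j ι z j' ι' z' W.1.1 W.1.2 (ℓ W) (ℓ' W) := fun W =>
    Classical.choice (exists_flipData hS hz hS' hz' W.1.2 (ℓ W) (hP W).gen')
  have hcov : ∀ s : Y, ∃ W : J, s ∈ W.1.1 := fun s => by
    obtain ⟨W, a, b, hs, hP⟩ := exists_paired e hL hL' s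
    exact ⟨⟨W, a, b, hP⟩, hs⟩
  let piece : ∀ W : J, (pC ⁻¹ᵁ W.1.1).toScheme ⟶ PC' := fun W =>
    flipPiece pC chartC pC' chartC' hS hz hS' hz' (hP W).gen (F W)
  obtain ⟨f, hf⟩ := exists_glue_preimage pC (fun W : J => W.1) hcov piece fun W W' s hs hs' => by
    obtain ⟨r, r', hrr, hsr⟩ := exists_basicOpen_le_affine_inter W.1.2 W'.1.2 s ⟨hs, hs'⟩
    have hV : IsAffineOpen (Y.basicOpen r) := W.1.2.basicOpen r
    let V : J := ⟨⟨_, hV⟩, _, _, (hP W).restrict (Y.basicOpen_le r)⟩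
    refine ⟨_, hsr, Y.basicOpen_le r, hrr ▸ Y.basicOpen_le r', ?_⟩
    rw [flipPiece_res hS hz hPC hS' hz' hPC' W.1.2 (hP W) (F W) r hV (Y.basicOpen_le r) rfl (hP V) (F V)]
    exact (flipPiece_res hS hz hPC hS' hz' hPC' W'.1.2 (hP W') (F W') r' hV (hrr ▸ Y.basicOpen_le r') hrr.symm
      (hP V) (F V)).symm
  have hover : f ≫ pC' = pC := by
    refine Scheme.hom_ext_of_forall _ _ fun c => ?_
    obtain ⟨W, hW⟩ := hcov (pC c)
    refine ⟨pC ⁻¹ᵁ W.1.1, hW, ?_⟩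
    rw [← Category.assoc, hf W]
    simp only [piece, flipPiece, Category.assoc]
    rw [emb_comp 𝒮h' pC' chartC' hPC' W.1.1 W.1.2, ← hPC.chart_over W.1.1 W.1.2]
    refine congrArg ((chartC W.1.1 W.1.2).hom ≫ ·) ?_
    rw [← Category.assoc, ← Category.assoc, ← Category.assoc _ _ W.1.2.fromSpec]
    refine congrArg (· ≫ W.1.2.fromSpec) ?_
    rw [Category.assoc]
    refine (Proj.mapAffineOpenCover (F W).ψ ((F W).irr hS hz hS' hz' (hP W).gen)).openCover.hom_ext _ _ fun s => ?_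
    simp only [Scheme.AffineOpenCover.openCover_f, Proj.mapAffineOpenCover_f]
    rw [Proj.awayι_comp_map_assoc (F W).ψ _ s.1.2 _ s.2.2, Proj.awayι_toSpecZero_assoc, Proj.awayι_toSpecZero_assoc,
      ← Spec.map_comp, ← Spec.map_comp, ← Spec.map_comp]
    refine congrArg Spec.map ?_
    ext q
    simp only [CommRingCat.hom_comp, CommRingCat.hom_ofHom, RingHom.comp_apply]
    let x := (𝒮h'.strZero W.1.1 W.1.2).hom q
    rw [show fromZeroRingHom (𝒮h'.deg W.1.1 W.1.2) (Submonoid.powers (s.2 : 𝒮h'.presheaf.obj (op W.1.1))) x =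
      Away.mk (𝒮h'.deg W.1.1 W.1.2) s.2.2 0 x.1 (by rw [zero_smul]; exact x.2) from val_injective _ (by
        rw [Away.val_mk]; exact congrArg (Localization.mk _) (Subtype.ext (pow_zero _).symm))]
    erw [Away.map_mk, Away.val_mk]
    exact congrArg₂ Localization.mk ((F W).str q) (Subtype.ext (pow_zero _))
  have hiso : IsIso f := by
    refine IsZariskiLocalAtTarget.of_iSup_eq_top (P := MorphismProperty.isomorphisms Scheme.{u})
      (fun W : J => pC' ⁻¹ᵁ W.1.1) ?_ fun W => ?_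
    · rw [eq_top_iff]
      intro c _
      obtain ⟨W, hW⟩ := hcov (pC' c)
      exact Opens.mem_iSup.mpr ⟨W, hW⟩
    have hpre : pC ⁻¹ᵁ W.1.1 = f ⁻¹ᵁ pC' ⁻¹ᵁ W.1.1 := by
      rw [← Scheme.Hom.comp_preimage, hover]
    have key : f ∣_ pC' ⁻¹ᵁ W.1.1 = (PC.isoOfEq hpre).inv ≫ (chartC W.1.1 W.1.2).hom ≫
        Proj.map (F W).ψ ((F W).irr hS hz hS' hz' (hP W).gen) ≫ (chartC' W.1.1 W.1.2).inv := by
      rw [Iso.eq_inv_comp, ← cancel_mono (pC' ⁻¹ᵁ W.1.1).ι, Category.assoc, morphismRestrict_ι,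
        Scheme.isoOfEq_hom_ι_assoc, hf W]
      simp only [piece, flipPiece, Category.assoc]
      rfl
    let G : FlipData j' ι' z' j ι z W.1.1 W.1.2 (ℓ' W) (ℓ W) :=
      Classical.choice (exists_flipData hS' hz' hS hz W.1.2 (ℓ' W) (hP W).gen)
    have hmapiso : IsIso (Proj.map (F W).ψ ((F W).irr hS hz hS' hz' (hP W).gen)) := by
      refine ⟨Proj.map G.ψ (G.irr hS' hz' hS hz (hP W).gen'), ?_, ?_⟩
      · rw [← Proj.map_comp]
        simp only [(F W).comp_eq_id hS hz (hP W).gen G]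
        exact Proj.map_id
      · rw [← Proj.map_comp]
        simp only [G.comp_eq_id hS' hz' (hP W).gen' (F W)]
        exact Proj.map_id
    show IsIso (f ∣_ pC' ⁻¹ᵁ W.1.1)
    rw [key]
    infer_instance
  have hpt : ∀ (W : J) (y : Proj (𝒮h.deg W.1.1 W.1.2)),
      f (RelProj.emb pC chartC W.1.1 W.1.2 y) = RelProj.emb pC' chartC' W.1.1 W.1.2
        (Proj.map (F W).ψ ((F W).irr hS hz hS' hz' (hP W).gen) y) := fun W y => by
    rw [← Scheme.Hom.comp_apply _ f, RelProj.emb, Category.assoc, hf W]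
    simp only [piece, flipPiece, Iso.inv_hom_id_assoc]
    rfl
  refine ⟨asIso f, hover, ?_, ?_⟩
  all_goals
    ext d
    obtain ⟨c, rfl⟩ := f.homeomorph.surjective d
    obtain ⟨W, hW⟩ := hcov (pC c)
    obtain ⟨y, rfl⟩ := exists_emb_eq 𝒮h pC chartC W.1.1 W.1.2 c hW
    show f (RelProj.emb pC chartC W.1.1 W.1.2 y) ∈ f '' _ ↔ f (RelProj.emb pC chartC W.1.1 W.1.2 y) ∈ _
    have hinj : Function.Injective f := f.homeomorph.injective
    rw [hinj.mem_set_image, hpt W y]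
  · rw [mem_range_zero_iff hS hz hPC hi haug hε (hP W).gen y, Set.mem_compl_iff,
      mem_range_imm_iff hz' hPC' hi', not_not]
    show _ ↔ (F W).ψ (RelCone.restrictTop 𝒮h' z' W.1.1) ∈ y.asHomogeneousIdeal
    rw [(F W).infty]
  · rw [mem_range_zero_iff hS' hz' hPC' hi' haug' hε' (hP W).gen' _, Set.mem_compl_iff,
      mem_range_imm_iff hz hPC hi, not_not]
    show _ ↔ (F W).ψ (lin j' ι' W.1.1 (ℓ' W)) ∈ y.asHomogeneousIdeal
    rw [(F W).lin']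

end Groth.Agent.ConeLine13
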