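import Groth.Agent.ConeLine13.PtMap
import Groth.Agent.RelConeLib.Retraction
import Groth.Agent.RelConeLib.PolyAway
import Groth.Agent.RelConeLib.ConeImm
import Groth.Agent.RelSpecLib.Basic
import Groth.Agent.SymAlgLib.Consequences
import Groth.Agent.AmpleLib.Twist
import Groth.Agent.PicLib.Invertible

/-!
# The pointed projective cone of a line bundle over a trivialising affine open
-/

set_option autoImplicit false
set_option linter.unusedSectionVars false
set_option backward.isDefEq.respectTransparency false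
set_option maxHeartbeats 1000000

universe u

open CategoryTheory AlgebraicGeometry Opposite TopologicalSpace HomogeneousLocalization DirectSum
open Groth.Agent.Coherent Groth.Agent.PicLib Groth.Agent.AmpleLib Groth.Agent.RelConeLib
open scoped HomogeneousIdeal

namespace Groth.Agent.ConeLine13

variable {Y : Scheme.{u}} {L L' : Y.Modules} [Coh.IsQCoh L] [Coh.IsQCoh L'] {𝒮 𝒮h : RelProj.QCGrAlg Y} {j : L ⟶ 𝒮.toModule}
  {ι : 𝒮.toQCAlg ⟶ 𝒮h.toQCAlg} {z : 𝒮h.presheaf.obj (op ⊤)} {𝒮' : RelSpec.QCAlg Y} {j' : L' ⟶ 𝒮'.toModule}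
  (hS : RelProj.IsGrSymAlg L 𝒮 j) (hz : RelCone.IsPolyOver 𝒮 𝒮h ι z) (hS' : RelSpec.IsSymAlg L' 𝒮' j')

variable (j ι) in
/-- The degree-one element of a generator. -/
noncomputable def lin (U : Y.Opens) (ℓ : Γ(L, U)) : 𝒮h.presheaf.obj (op U) :=
  (ι.hom.app (op U)).hom (show 𝒮.presheaf.obj (op U) from j.app U ℓ)

include hS hz in
theorem lin_mem {U : Y.Opens} (hU : IsAffineOpen U) (ℓ : Γ(L, U)) : lin j ι U ℓ ∈ 𝒮h.deg U hU 1 :=
  (RelProj.gradedHomAt ι hz.graded U hU).2 (hS.2 U hU ℓ)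

theorem lin_res {U V : Y.Opens} (hVU : V ≤ U) (ℓ : Γ(L, U)) :
    (𝒮h.presheaf.map (homOfLE hVU).op).hom (lin j ι U ℓ) = lin j ι V (resM L hVU ℓ) := by
  refine (ConcreteCategory.congr_hom (ι.hom.naturality (homOfLE hVU).op) _).symm.trans ?_
  exact congrArg (ι.hom.app (op V)).hom (app_resM j hVU ℓ).symm

theorem lin_smul {U : Y.Opens} (c : Γ(Y, U)) (ℓ : Γ(L, U)) :
    lin j ι U (c • ℓ) = (𝒮h.str.app (op U)).hom c * lin j ι U ℓ := by
  rw [lin, Scheme.Modules.Hom.app_smul]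
  show (ι.hom.app (op U)).hom ((𝒮.str.app (op U)).hom c * _) = _
  rw [map_mul]
  exact congrArg (· * _) (ConcreteCategory.congr_hom (NatTrans.congr_app ι.comm (op U)) c)

include hS in
/-- Sections of degree `k` of the symmetric algebra of a free module of rank one. -/
theorem exists_deg_eq {U : Y.Opens} (hU : IsAffineOpen U) {ℓ : Γ(L, U)} (hℓ : IsGen L U ℓ) {k : ℕ}
    {x : 𝒮.presheaf.obj (op U)} (hx : x ∈ 𝒮.deg U hU k) :
    ∃ c : Γ(Y, U), x = (𝒮.str.app (op U)).hom c * (show 𝒮.presheaf.obj (op U) from j.app U ℓ) ^ k := by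
  classical
  let t : 𝒮.presheaf.obj (op U) := j.app U ℓ
  have ht : t ∈ 𝒮.deg U hU 1 := hS.2 U hU ℓ
  let P : Polynomial Γ(Y, U) →+* 𝒮.presheaf.obj (op U) := Polynomial.eval₂RingHom (𝒮.str.app (op U)).hom t
  have hP : Function.Surjective P := by
    intro a
    have h := (SymAlgLib.closure_eq_top hS.1 hU).ge (Subring.mem_top a)
    refine (Subring.closure_le (t := P.range)).2 ?_ h
    rintro _ (⟨r, rfl⟩ | ⟨e, rfl⟩)
    · exact ⟨Polynomial.C r, Polynomial.eval₂_C _ _⟩
    · refine ⟨Polynomial.C (hℓ.coef le_rfl e) * Polynomial.X, ?_⟩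
      simp only [P, Polynomial.coe_eval₂RingHom, Polynomial.eval₂_mul, Polynomial.eval₂_C, Polynomial.eval₂_X]
      have he := hℓ.coef_spec le_rfl e
      rw [resM_self] at he
      conv_rhs => rw [← he]
      exact (Scheme.Modules.Hom.app_smul j _ _).symm
  obtain ⟨p, rfl⟩ := hP x
  refine ⟨p.coeff k, ?_⟩
  have hmem : ∀ i, (𝒮.str.app (op U)).hom (p.coeff i) * t ^ i ∈ 𝒮.deg U hU i := fun i => by
    have h := SetLike.mul_mem_graded (𝒮.str_mem U hU (p.coeff i)) (SetLike.pow_mem_graded i ht)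
    simpa using h
  have h0 : P p = ∑ i ∈ p.support, (𝒮.str.app (op U)).hom (p.coeff i) * t ^ i := Polynomial.eval₂_eq_sum ..
  rw [← decompose_of_mem_same (𝒮.deg U hU) hx, h0, decompose_sum, DFinsupp.finset_sum_apply,
    AddSubmonoidClass.coe_finset_sum]
  rw [Finset.sum_eq_single k (fun i _ hi => decompose_of_mem_ne (𝒮.deg U hU) (hmem i) hi) fun hk => by
    rw [Polynomial.notMem_support_iff.1 hk, map_zero, zero_mul, decompose_zero]; rfl]
  exact decompose_of_mem_same (𝒮.deg U hU) (hmem k)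

include hS hz in
/-- Ring maps on the sections of the cone are determined by three values. -/
theorem hom_ext_h {U : Y.Opens} (hU : IsAffineOpen U) {ℓ : Γ(L, U)} (hℓ : IsGen L U ℓ) {C : Type u} [CommRing C]
    {f g : 𝒮h.presheaf.obj (op U) →+* C}
    (h0 : ∀ r, f ((𝒮h.str.app (op U)).hom r) = g ((𝒮h.str.app (op U)).hom r))
    (h1 : f (lin j ι U ℓ) = g (lin j ι U ℓ))
    (h2 : f (RelCone.restrictTop 𝒮h z U) = g (RelCone.restrictTop 𝒮h z U)) : f = g := by
  have hι : f.comp (ι.hom.app (op U)).hom = g.comp (ι.hom.app (op U)).hom := by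
    refine SymAlgLib.sectionsHom_ext hS.1 hU (fun r => ?_) fun e => ?_
    · have hc := ConcreteCategory.congr_hom (NatTrans.congr_app ι.comm (op U)) r
      exact (congrArg f hc).trans ((h0 r).trans (congrArg g hc).symm)
    · have he := hℓ.coef_spec le_rfl e
      rw [resM_self] at he
      show f (lin j ι U e) = g (lin j ι U e)
      rw [← he, lin_smul, map_mul, map_mul, h0, h1]
  refine (RingHom.cancel_right (hz.bij U hU).2).1 (Polynomial.ringHom_ext (fun a => ?_) ?_)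
  · simp only [RingHom.comp_apply, Polynomial.coe_eval₂RingHom, Polynomial.eval₂_C]
    exact RingHom.congr_fun hι a
  · simp only [RingHom.comp_apply, Polynomial.coe_eval₂RingHom, Polynomial.eval₂_X]
    exact h2

variable (z j ι j') in
/-- The evaluation making the given generator one. -/
structure EvData (U : Y.Opens) (ℓ : Γ(L, U)) (ℓ' : Γ(L', U)) where
  /-- the ring map -/
  ev : 𝒮h.presheaf.obj (op U) →+* 𝒮'.presheaf.obj (op U)
  str : ∀ r, ev ((𝒮h.str.app (op U)).hom r) = (𝒮'.str.app (op U)).hom r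
  one : ev (lin j ι U ℓ) = 1
  infty : ev (RelCone.restrictTop 𝒮h z U) = j'.app U ℓ'

include hS hz in
theorem exists_evData {U : Y.Opens} (hU : IsAffineOpen U) {ℓ : Γ(L, U)} (hℓ : IsGen L U ℓ) (ℓ' : Γ(L', U)) :
    Nonempty (EvData j ι z j' U ℓ ℓ' (𝒮' := 𝒮')) := by
  let co : Γ(L, U) → Γ(Y, U) := fun e => hℓ.coef le_rfl e
  obtain ⟨g, hg0, hg1⟩ := SymAlgLib.exists_sectionsHom hS.1 hU (𝒮'.str.app (op U)).hom
    (AddMonoidHom.mk' (fun e => (𝒮'.str.app (op U)).hom (co e)) fun a b => by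
      show (𝒮'.str.app (op U)).hom (co (a + b)) = _
      rw [← map_add]; exact congrArg _ (hℓ.coef_add _ _ _))
    (fun r e => by
      show (𝒮'.str.app (op U)).hom (co (r • e)) = _ * (𝒮'.str.app (op U)).hom (co e)
      rw [← map_mul]; exact congrArg _ (hℓ.coef_smul _ _ _))
  let ev := (Polynomial.eval₂RingHom g (show 𝒮'.presheaf.obj (op U) from j'.app U ℓ')).comp
    (hz.polyEquiv U hU).symm.toRingHom
  have hC : ∀ a, ev ((ι.hom.app (op U)).hom a) = g a := fun a => by
    have h : (hz.polyEquiv U hU).symm ((ι.hom.app (op U)).hom a) = Polynomial.C a := by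
      rw [RingEquiv.symm_apply_eq, RelCone.IsPolyOver.polyEquiv_apply, Polynomial.eval₂_C]
    show Polynomial.eval₂ g _ ((hz.polyEquiv U hU).symm _) = _
    rw [h, Polynomial.eval₂_C]
  refine ⟨⟨ev, fun r => ?_, ?_, ?_⟩⟩
  · rw [← hg0 r, ← hC]
    exact congrArg ev (ConcreteCategory.congr_hom (NatTrans.congr_app ι.comm (op U)) r).symm
  · refine (hC _).trans ((hg1 ℓ).trans ?_)
    show (𝒮'.str.app (op U)).hom (co ℓ) = 1
    rw [show co ℓ = 1 from hℓ.coef_eq le_rfl (by rw [resM_self, one_smul]), map_one]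
  · have h : (hz.polyEquiv U hU).symm (RelCone.restrictTop 𝒮h z U) = Polynomial.X := by
      rw [RingEquiv.symm_apply_eq, RelCone.IsPolyOver.polyEquiv_apply, Polynomial.eval₂_X]
    show Polynomial.eval₂ g _ ((hz.polyEquiv U hU).symm _) = _
    rw [h, Polynomial.eval₂_X]

variable {U : Y.Opens} {hU : IsAffineOpen U} {ℓ : Γ(L, U)} {ℓ' : Γ(L', U)}

theorem EvData.isUnit (D : EvData j ι z j' U ℓ ℓ' (𝒮' := 𝒮')) : IsUnit (D.ev (lin j ι U ℓ)) := by
  rw [D.one]; exact isUnit_one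

/-- The map of the affine piece to `Proj`. -/
noncomputable def EvData.map (D : EvData j ι z j' U ℓ ℓ' (𝒮' := 𝒮')) (hU : IsAffineOpen U)
    (hT : lin j ι U ℓ ∈ 𝒮h.deg U hU 1) : Spec (𝒮'.presheaf.obj (op U)) ⟶ Proj (𝒮h.deg U hU) :=
  ptMap (𝒜 := 𝒮h.deg U hU) D.ev D.isUnit hT

include hS hz hS' in
theorem bijective_θ (hℓ : IsGen L U ℓ) (hℓ' : IsGen L' U ℓ') (D : EvData j ι z j' U ℓ ℓ' (𝒮' := 𝒮'))
    (hU : IsAffineOpen U) (hT : lin j ι U ℓ ∈ 𝒮h.deg U hU 1) :
    Function.Bijective (θ (𝒮h.deg U hU) D.ev D.isUnit) := by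
  classical
  let C := Away (𝒮h.deg U hU) (lin j ι U ℓ)
  let a : Γ(Y, U) →+* C := (fromZeroRingHom (𝒮h.deg U hU) _).comp (𝒮h.strZero U hU).hom
  have hw : RelCone.restrictTop 𝒮h z U ∈ 𝒮h.deg U hU (1 • 1) := by simpa using hz.deg_z U hU
  let w : C := Away.mk _ hT 1 _ hw
  have hθa : ∀ r, θ (𝒮h.deg U hU) D.ev D.isUnit (a r) = (𝒮'.str.app (op U)).hom r := fun r => by
    have h := θ_mul_pow (𝒜 := 𝒮h.deg U hU) D.ev D.isUnit (a r) ((𝒮h.str.app (op U)).hom r) 0
      (congrArg (Localization.mk _) (Subtype.ext (pow_zero _).symm))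
    rwa [pow_zero, mul_one, D.str] at h
  have hθw : θ (𝒮h.deg U hU) D.ev D.isUnit w = j'.app U ℓ' := by
    have h := θ_mk (𝒜 := 𝒮h.deg U hU) D.ev D.isUnit hT 1 _ hw
    rwa [pow_one, D.one, mul_one, D.infty] at h
  obtain ⟨Φ, hΦ0, hΦ1⟩ := SymAlgLib.exists_sectionsHom hS' hU a
    (AddMonoidHom.mk' (fun e => a (hℓ'.coef le_rfl e) * w) fun x y => by
      rw [← add_mul, ← map_add, hℓ'.coef_add le_rfl x y])
    (fun r e => by
      show a (hℓ'.coef le_rfl (r • e)) * w = a r * (a (hℓ'.coef le_rfl e) * w)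
      rw [← mul_assoc, ← map_mul, hℓ'.coef_smul le_rfl r e])
  have hw1 : hℓ'.coef le_rfl ℓ' = 1 := hℓ'.coef_eq le_rfl (by rw [resM_self, one_smul])
  have e1 : (θ (𝒮h.deg U hU) D.ev D.isUnit).comp Φ = RingHom.id _ := by
    refine SymAlgLib.sectionsHom_ext hS' hU (fun r => ?_) fun e => ?_
    · rw [RingHom.comp_apply, hΦ0, hθa]; rfl
    · rw [RingHom.comp_apply, hΦ1]
      show θ _ _ _ (a _ * w) = _
      rw [map_mul, hθa, hθw]
      have he := hℓ'.coef_spec le_rfl e
      rw [resM_self] at he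
      conv_rhs => rw [← he]
      exact (Scheme.Modules.Hom.app_smul j' _ _).symm
  have hsurjΦ : Function.Surjective Φ := by
    intro q
    obtain ⟨k, y, hy, rfl⟩ := Away.mk_surjective (𝒮h.deg U hU) hT q
    obtain ⟨x, hx, e⟩ := exists_decomp (RelProj.gradedHomAt ι hz.graded U hU) (hz.deg_z U hU) (hz.bij U hU)
      (k := k) (by simpa using hy)
    choose c hc using fun i => exists_deg_eq hS hU hℓ (hx i)
    let jl : 𝒮'.presheaf.obj (op U) := j'.app U ℓ'
    refine ⟨∑ i ∈ Finset.range (k + 1), (𝒮'.str.app (op U)).hom (c i) * jl ^ (k - i), ?_⟩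
    apply val_injective
    have hwv : (Φ jl).val = Localization.mk (RelCone.restrictTop 𝒮h z U)
        ⟨lin j ι U ℓ ^ 1, pow_mem (Submonoid.mem_powers _) 1⟩ := by
      rw [hΦ1]
      show (a (hℓ'.coef le_rfl ℓ') * w).val = _
      rw [hw1, map_one, one_mul]
      exact Away.val_mk ..
    let al := algebraMap C (Localization.Away (lin j ι U ℓ))
    have hal : ∀ q : C, q.val = al q := fun q => (HomogeneousLocalization.algebraMap_apply q).symm
    rw [hal, map_sum, map_sum]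
    rw [Away.val_mk, Localization.mk_eq_mk', IsLocalization.eq_mk'_iff_mul_eq, Finset.sum_mul, e, map_sum]
    refine Finset.sum_congr rfl fun i hi => ?_
    rw [Finset.mem_range] at hi
    rw [map_mul, map_pow, map_mul, map_pow, hΦ0]
    show ((a (c i)).val * (Φ jl).val ^ (k - i)) * algebraMap _ _ (lin j ι U ℓ ^ k) = _
    have hav : (a (c i)).val = algebraMap _ (Localization.Away (lin j ι U ℓ)) ((𝒮h.str.app (op U)).hom (c i)) := by
      rw [← Localization.mk_one_eq_algebraMap]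
      rfl
    have hiy : (RelProj.gradedHomAt ι hz.graded U hU) (x i) =
        (𝒮h.str.app (op U)).hom (c i) * lin j ι U ℓ ^ i := by
      rw [hc i]
      show (ι.hom.app (op U)).hom (_ * _ ^ i) = _
      rw [map_mul, map_pow]
      exact congrArg (· * _) (ConcreteCategory.congr_hom (NatTrans.congr_app ι.comm (op U)) (c i))
    rw [hav, hwv, hiy, show k = i + (k - i) by omega, pow_add (lin j ι U ℓ) i, show i + (k - i) - i = k - i by omega,
      map_mul, map_mul, map_mul, mul_comm (algebraMap _ _ (lin j ι U ℓ ^ i)), map_pow, map_pow, map_pow]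
    have hs : Localization.mk (RelCone.restrictTop 𝒮h z U)
        (⟨lin j ι U ℓ ^ 1, pow_mem (Submonoid.mem_powers _) 1⟩ : Submonoid.powers (lin j ι U ℓ)) *
        algebraMap _ (Localization.Away (lin j ι U ℓ)) (lin j ι U ℓ) =
        algebraMap _ _ (RelCone.restrictTop 𝒮h z U) := by
      rw [Localization.mk_eq_mk']
      convert IsLocalization.mk'_spec (Localization.Away (lin j ι U ℓ)) (RelCone.restrictTop 𝒮h z U)
        (⟨lin j ι U ℓ ^ 1, pow_mem (Submonoid.mem_powers _) 1⟩ : Submonoid.powers (lin j ι U ℓ)) using 2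
      exact congrArg _ (pow_one _).symm
    rw [← hs, mul_pow]
    ring
  refine ⟨fun q q' h => ?_, fun b => ⟨Φ b, RingHom.congr_fun e1 b⟩⟩
  obtain ⟨b, rfl⟩ := hsurjΦ q
  obtain ⟨b', rfl⟩ := hsurjΦ q'
  rw [show b = b' from (RingHom.congr_fun e1 b).symm.trans (h.trans (RingHom.congr_fun e1 b'))]

include hS hz in
/-- The pointed cone over a trivialising open is the locus where the generator is invertible. -/
theorem domOpen_eq (hℓ : IsGen L U ℓ) (hU : IsAffineOpen U) :
    RelCone.domOpen (ιAt 𝒮 𝒮h ι z hz U hU) = Proj.basicOpen (𝒮h.deg U hU) (lin j ι U ℓ) := by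
  refine Opens.ext (Set.ext fun y => ?_)
  rw [SetLike.mem_coe, SetLike.mem_coe, RelCone.mem_domOpen, Proj.mem_basicOpen]
  constructor
  · rintro ⟨a, ha, hay⟩ hTy
    refine hay ?_
    show ιAt 𝒮 𝒮h ι z hz U hU a ∈ y.asHomogeneousIdeal
    classical
    rw [← sum_support_decompose (𝒮.deg U hU) a, map_sum]
    refine Ideal.sum_mem y.asHomogeneousIdeal.toIdeal fun i _ => ?_
    obtain ⟨c, hc⟩ := exists_deg_eq hS hU hℓ (decompose (𝒮.deg U hU) a i).2
    rcases Nat.eq_zero_or_pos i with rfl | hi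
    · rw [show (decompose (𝒮.deg U hU) a 0 : 𝒮.presheaf.obj (op U)) = 0 from ha, map_zero]
      exact Ideal.zero_mem _
    rw [hc, map_mul, map_pow]
    exact Ideal.mul_mem_left _ _ (Ideal.pow_mem_of_mem _ hTy i hi)
  · intro hTy
    refine ⟨j.app U ℓ, ?_, hTy⟩
    exact HomogeneousIdeal.mem_irrelevant_of_mem (𝒮.deg U hU) one_pos (hS.2 U hU ℓ)

end Groth.Agent.ConeLine13
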