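import Groth.Agent.ConeLine13.Pair

/-!
# The pointed projective cone of a line bundle is the inverse line bundle
-/

set_option autoImplicit false
set_option linter.unusedSectionVars false
set_option backward.isDefEq.respectTransparency false
set_option maxHeartbeats 1000000

universe u

open CategoryTheory AlgebraicGeometry Opposite TopologicalSpace HomogeneousLocalization
open Groth.Agent.Coherent Groth.Agent.PicLib Groth.Agent.AmpleLib Groth.Agent.RelConeLib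
open scoped HomogeneousIdeal

namespace Groth.Agent.ConeLine13

variable {Y PC : Scheme.{u}} {L L' : Y.Modules} [Coh.IsQCoh L] [Coh.IsQCoh L'] {𝒮 𝒮h : RelProj.QCGrAlg Y}
  {j : L ⟶ 𝒮.toModule} {ι : 𝒮.toQCAlg ⟶ 𝒮h.toQCAlg} {z : 𝒮h.presheaf.obj (op ⊤)} {𝒮' : RelSpec.QCAlg Y}
  {j' : L' ⟶ 𝒮'.toModule} {e : CohB1.tensorMod L L' ≅ Coh.structureModule Y}
  {pC : PC ⟶ Y}
  {chartC : ∀ (U : Y.Opens) (hU : IsAffineOpen U), (((pC ⁻¹ᵁ U : PC.Opens) : Scheme.{u}) ≅ Proj (𝒮h.deg U hU))}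
  (hS : RelProj.IsGrSymAlg L 𝒮 j) (hz : RelCone.IsPolyOver 𝒮 𝒮h ι z) (hS' : RelSpec.IsSymAlg L' 𝒮' j')
  (hPC : RelProj.IsRelProj 𝒮h pC chartC)

variable (pC chartC) in
/-- The piece of the comparison map over a trivialising affine open. -/
noncomputable def piece {U : Y.Opens} (hU : IsAffineOpen U) {ℓ : Γ(L, U)} {ℓ' : Γ(L', U)}
    (D : EvData j ι z j' U ℓ ℓ' (𝒮' := 𝒮')) : Spec (𝒮'.presheaf.obj (op U)) ⟶ PC :=
  D.map hU (lin_mem hS hz hU ℓ) ≫ RelProj.emb pC chartC U hU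

include hS' hPC in
theorem piece_res {U : Y.Opens} (hU : IsAffineOpen U) {ℓ : Γ(L, U)} {ℓ' : Γ(L', U)} (P : Paired e U ℓ ℓ')
    (D : EvData j ι z j' U ℓ ℓ' (𝒮' := 𝒮')) (r : Γ(Y, U)) {V : Y.Opens} (hV : IsAffineOpen V) (hle : V ≤ U)
    (hVr : Y.basicOpen r = V) {m : Γ(L, V)} {m' : Γ(L', V)} (Q : Paired e V m m')
    (D' : EvData j ι z j' V m m' (𝒮' := 𝒮')) :
    Spec.map (𝒮'.presheaf.map (homOfLE hle).op) ≫ piece pC chartC hS hz hU D = piece pC chartC hS hz hV D' := by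
  subst hVr
  let res' := (𝒮'.presheaf.map (homOfLE hle).op).hom
  let resh := 𝒮h.res hU hV hle
  let a : Γ(Y, Y.basicOpen r) := Q.gen.coef le_rfl (resM L hle ℓ)
  let v : 𝒮'.presheaf.obj (op (Y.basicOpen r)) := (𝒮'.str.app (op (Y.basicOpen r))).hom a
  have hm' : m' = a • resM L' hle ℓ' := (P.restrict hle).change Q
  have ha : a • m = resM L hle ℓ := by
    have := Q.gen.coef_spec le_rfl (resM L hle ℓ); rwa [resM_self] at this
  let f := D'.ev.comp resh.toRingHom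
  let g := res'.comp D.ev
  have hr : ∀ w, resh w = (𝒮h.presheaf.map (homOfLE hle).op).hom w := fun w => rfl
  have f0 : ∀ q, f ((𝒮h.str.app (op U)).hom q) = g ((𝒮h.str.app (op U)).hom q) := fun q => by
    show D'.ev (resh _) = res' (D.ev _)
    rw [hr, str_res 𝒮h.toQCAlg hle q, D'.str, D.str]
    exact (str_res 𝒮' hle q).symm
  have flin : f (lin j ι U ℓ) = v := by
    show D'.ev (resh _) = _
    rw [hr, lin_res hle ℓ, ← ha, lin_smul, map_mul, D'.str, D'.one, mul_one]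
  have f1 : f (lin j ι U ℓ) = v * g (lin j ι U ℓ) := by
    rw [flin]
    show v = v * res' (D.ev _)
    rw [D.one, map_one, mul_one]
  have f2 : f (RelCone.restrictTop 𝒮h z U) = v * g (RelCone.restrictTop 𝒮h z U) := by
    show D'.ev (resh _) = v * res' (D.ev _)
    rw [hr, restrictTop_res 𝒮h z hle, D'.infty, D.infty, hm']
    refine (Scheme.Modules.Hom.app_smul j' a _).trans ?_
    exact congrArg (v * ·) (app_resM j' hle ℓ')
  have hfu : IsUnit (f (lin j ι U ℓ)) := by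
    rw [flin]
    exact (Q.gen.isUnit_coef (P.restrict hle).gen).map _
  rw [piece, piece, ← Category.assoc, EvData.map, EvData.map]
  erw [specMap_ptMap]
  refine (congrArg (· ≫ RelProj.emb pC chartC U hU)
    (ptMap_eq_of_scale (𝒜 := 𝒮h.deg U hU) g (D.isUnit.map res') (lin_mem hS hz hU ℓ) f (lin_mem hS hz hU ℓ)
      hfu v fun k y hy => deg_scale hS hz hU P.gen v f0 f1 f2 k y hy)).trans ?_
  have h2 := ptMap_map (𝒜 := 𝒮h.deg U hU) (lin_mem hS hz hU ℓ) resh (𝒮h.irrelevant_le_map U hU r) D'.ev hfu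
  rw [← h2, Category.assoc, RelProj.map_res_emb hPC U hU r]
  refine congrArg (· ≫ RelProj.emb pC chartC _ hV) ?_
  exact ptMap_eq_of_scale (𝒜 := 𝒮h.deg _ hV) D'.ev _ _ D'.ev _ _ 1 fun k y _ => by rw [one_pow, one_mul]

include hS' hPC in
theorem piece_over {U : Y.Opens} (hU : IsAffineOpen U) {ℓ : Γ(L, U)} {ℓ' : Γ(L', U)}
    (D : EvData j ι z j' U ℓ ℓ' (𝒮' := 𝒮')) :
    piece pC chartC hS hz hU D ≫ pC = 𝒮'.ι U hU ≫ 𝒮'.π := by
  rw [piece, Category.assoc, emb_comp 𝒮h pC chartC hPC U hU, EvData.map, ptMap, Category.assoc,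
    Proj.awayι_toSpecZero_assoc, 𝒮'.ι_π, ← Spec.map_comp_assoc, ← Spec.map_comp_assoc]
  congr 2
  ext q
  show θ (𝒮h.deg U hU) D.ev D.isUnit (fromZeroRingHom (𝒮h.deg U hU) _ ((𝒮h.strZero U hU).hom q)) = _
  have h := θ_mul_pow (𝒜 := 𝒮h.deg U hU) D.ev D.isUnit (fromZeroRingHom (𝒮h.deg U hU) _ ((𝒮h.strZero U hU).hom q))
    ((𝒮h.str.app (op U)).hom q) 0 (congrArg (Localization.mk _) (Subtype.ext (pow_zero _).symm))
  rw [pow_zero, mul_one, D.str] at h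
  exact h

include hS hz hS' hPC in
theorem exists_iso (hL : PicF.IsInvertible L) (hL' : PicF.IsInvertible L')
    (e : CohB1.tensorMod L L' ≅ Coh.structureModule Y) :
    ∃ φ : 𝒮'.spec ≅ ((RelCone.pointedProjCone 𝒮 hz pC chartC : PC.Opens) : Scheme.{u}),
      φ.hom ≫ (RelCone.pointedProjCone 𝒮 hz pC chartC).ι ≫ pC = 𝒮'.π := by
  classical
  let J := {W : Y.affineOpens // ∃ (ℓ : Γ(L, W.1)) (ℓ' : Γ(L', W.1)), Paired e W.1 ℓ ℓ'}
  choose ℓ ℓ' hP using fun W : J => W.2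
  let D : ∀ W : J, EvData j ι z j' W.1.1 (ℓ W) (ℓ' W) (𝒮' := 𝒮') := fun W =>
    Classical.choice (exists_evData hS hz W.1.2 (hP W).gen (ℓ' W))
  have hcov : ∀ s : Y, ∃ W : J, s ∈ W.1.1 := fun s => by
    obtain ⟨W, a, b, hs, hP⟩ := exists_paired e hL hL' s
    exact ⟨⟨W, a, b, hP⟩, hs⟩
  let F : ∀ W : J, Spec (𝒮'.presheaf.obj (op W.1.1)) ⟶ PC := fun W => piece pC chartC hS hz W.1.2 (D W)
  obtain ⟨f, hf, -⟩ := RelSpecLib.existsUnique_glue 𝒮' (fun W : J => W.1.1) (fun W => W.1.2) hcov F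
    fun W W' s hs hs' => by
      obtain ⟨r, r', hrr, hsr⟩ := exists_basicOpen_le_affine_inter W.1.2 W'.1.2 s ⟨hs, hs'⟩
      have hV : IsAffineOpen (Y.basicOpen r) := W.1.2.basicOpen r
      let V : J := ⟨⟨_, hV⟩, _, _, (hP W).restrict (Y.basicOpen_le r)⟩
      refine ⟨_, hV, hsr, Y.basicOpen_le r, hrr ▸ Y.basicOpen_le r', ?_⟩
      rw [piece_res hS hz hS' hPC W.1.2 (hP W) (D W) r hV (Y.basicOpen_le r) rfl (hP V) (D V)]
      exact (piece_res hS hz hS' hPC W'.1.2 (hP W') (D W') r' hV (hrr ▸ Y.basicOpen_le r') hrr.symm (hP V) (D V)).symm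
  have hover : f ≫ pC = 𝒮'.π :=
    RelSpecLib.hom_ext_charts 𝒮' (fun W : J => W.1.1) (fun W => W.1.2) hcov fun W => by
      rw [← Category.assoc, hf W]
      exact piece_over hS hz hS' hPC W.1.2 (D W)
  have hiso : ∀ W : J, IsIso (CommRingCat.ofHom (θ (𝒮h.deg W.1.1 W.1.2) (D W).ev (D W).isUnit)) := fun W =>
    (ConcreteCategory.isIso_iff_bijective _).mpr
      (bijective_θ hS hz hS' (hP W).gen (hP W).gen' (D W) W.1.2 (lin_mem hS hz W.1.2 _))
  have : IsOpenImmersion f := by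
    refine IsZariskiLocalAtTarget.of_iSup_eq_top (P := @IsOpenImmersion) (fun W : J => pC ⁻¹ᵁ W.1.1) ?_ fun W => ?_
    · rw [eq_top_iff]
      intro c _
      obtain ⟨W, hW⟩ := hcov (pC c)
      exact Opens.mem_iSup.mpr ⟨W, hW⟩
    have hrange : (𝒮'.ι W.1.1 W.1.2).opensRange = f ⁻¹ᵁ pC ⁻¹ᵁ W.1.1 := by
      rw [← Scheme.Hom.comp_preimage, hover, 𝒮'.π_preimage W.1.1 W.1.2]
    let a := (𝒮'.ι W.1.1 W.1.2).isoOpensRange ≪≫ 𝒮'.spec.isoOfEq hrange
    have key : f ∣_ pC ⁻¹ᵁ W.1.1 = a.inv ≫ (D W).map W.1.2 (lin_mem hS hz W.1.2 _) ≫ (chartC W.1.1 W.1.2).inv := by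
      rw [Iso.eq_inv_comp, ← cancel_mono (pC ⁻¹ᵁ W.1.1).ι, Category.assoc, morphismRestrict_ι]
      have ha : a.hom ≫ (f ⁻¹ᵁ pC ⁻¹ᵁ W.1.1).ι = 𝒮'.ι W.1.1 W.1.2 := by
        simp [a, Scheme.isoOfEq_hom_ι]
      rw [reassoc_of% ha, hf W]
      simp only [Category.assoc]
      rfl
    rw [key]
    have := hiso W
    unfold EvData.map ptMap
    infer_instance
  have hr : Set.range f = Set.range (RelCone.pointedProjCone 𝒮 hz pC chartC).ι := by
    rw [Scheme.Opens.range_ι]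
    ext c
    obtain ⟨W, hW⟩ := hcov (pC c)
    obtain ⟨y, rfl⟩ := exists_emb_eq 𝒮h pC chartC W.1.1 W.1.2 c hW
    rw [SetLike.mem_coe, mem_pointedProjCone_iff 𝒮 𝒮h ι z hz pC chartC hPC W.1.2 y,
      domOpen_eq hS hz (hP W).gen W.1.2,
      ← Proj.opensRange_awayι (𝒮h.deg W.1.1 W.1.2) (lin j ι W.1.1 (ℓ W)) (lin_mem hS hz W.1.2 _) one_pos]
    have := hiso W
    let θ' := CommRingCat.ofHom (θ (𝒮h.deg W.1.1 W.1.2) (D W).ev (D W).isUnit)
    constructor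
    · rintro ⟨x, hx⟩
      have hπ : 𝒮'.π x ∈ W.1.1 := by
        rw [← hover, Scheme.Hom.comp_apply, hx]
        exact emb_mem 𝒮h pC chartC W.1.1 W.1.2 y
      obtain ⟨q, rfl⟩ := RelSpecLib.exists_chart_eq _ W.1.2 x hπ
      refine ⟨Spec.map θ' q, (RelProj.emb pC chartC W.1.1 W.1.2).isOpenEmbedding.injective ?_⟩
      rw [← hx, ← Scheme.Hom.comp_apply _ f, hf W]
      rfl
    · rintro ⟨w, rfl⟩
      obtain ⟨q, rfl⟩ := (Spec.map θ').surjective w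
      refine ⟨𝒮'.ι W.1.1 W.1.2 q, ?_⟩
      rw [← Scheme.Hom.comp_apply, hf W]
      rfl
  refine ⟨IsOpenImmersion.isoOfRangeEq f (RelCone.pointedProjCone 𝒮 hz pC chartC).ι hr, ?_⟩
  rw [IsOpenImmersion.isoOfRangeEq_hom_fac_assoc, hover]

end Groth.Agent.ConeLine13
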