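import Groth.Agent.ConeLine13.Local
import Groth.Agent.AmpleLib.Tensor

/-!
# Paired generators of mutually inverse line bundles
-/

set_option autoImplicit false
set_option linter.unusedSectionVars false
set_option backward.isDefEq.respectTransparency false
set_option maxHeartbeats 1000000

universe u

open CategoryTheory AlgebraicGeometry Opposite TopologicalSpace HomogeneousLocalization
open Groth.Agent.Coherent Groth.Agent.PicLib Groth.Agent.AmpleLib Groth.Agent.RelConeLib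

namespace Groth.Agent.ConeLine13

variable {Y : Scheme.{u}} {L L' : Y.Modules}

/-- The function attached to a pair of sections. -/
noncomputable def pairing (e : CohB1.tensorMod L L' ≅ Coh.structureModule Y) (U : Y.Opens) (a : Γ(L, U)) (b : Γ(L', U)) :
    Γ(Y, U) := e.hom.app U (tmul a b)

variable (e : CohB1.tensorMod L L' ≅ Coh.structureModule Y)

theorem pairing_smul {U : Y.Opens} (r r' : Γ(Y, U)) (a : Γ(L, U)) (b : Γ(L', U)) :
    pairing e U (r • a) (r' • b) = r * r' * pairing e U a b := by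
  rw [pairing, tmul_smul_smul, Scheme.Modules.Hom.app_smul]
  rfl

theorem pairing_smul_left {U : Y.Opens} (r : Γ(Y, U)) (a : Γ(L, U)) (b : Γ(L', U)) :
    pairing e U (r • a) b = r * pairing e U a b := by
  rw [pairing, tmul_smul_left, Scheme.Modules.Hom.app_smul]
  rfl

theorem pairing_smul_right {U : Y.Opens} (r : Γ(Y, U)) (a : Γ(L, U)) (b : Γ(L', U)) :
    pairing e U a (r • b) = r * pairing e U a b := by
  rw [pairing, tmul_smul_right, Scheme.Modules.Hom.app_smul]
  rfl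

theorem pairing_res {U V : Y.Opens} (h : V ≤ U) (a : Γ(L, U)) (b : Γ(L', U)) :
    pairing e V (resM L h a) (resM L' h b) = res h (pairing e U a b) := by
  rw [pairing, ← resM_tmul, app_resM]
  rfl

/-- Generators pairing to one. -/
structure Paired (U : Y.Opens) (ℓ : Γ(L, U)) (ℓ' : Γ(L', U)) : Prop where
  gen : IsGen L U ℓ
  gen' : IsGen L' U ℓ'
  one : pairing e U ℓ ℓ' = 1

variable {e}

theorem Paired.restrict {U V : Y.Opens} {ℓ : Γ(L, U)} {ℓ' : Γ(L', U)} (h : Paired e U ℓ ℓ') (hVU : V ≤ U) :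
    Paired e V (resM L hVU ℓ) (resM L' hVU ℓ') :=
  ⟨h.gen.restrict hVU, h.gen'.restrict hVU, by rw [pairing_res, h.one, map_one]⟩

/-- Two pairs differ by mutually inverse factors. -/
theorem Paired.change {U : Y.Opens} {ℓ m : Γ(L, U)} {ℓ' m' : Γ(L', U)} (h : Paired e U ℓ ℓ')
    (hm : Paired e U m m') : m' = hm.gen.coef le_rfl ℓ • ℓ' := by
  have ha : hm.gen.coef le_rfl ℓ • m = ℓ := by
    have := hm.gen.coef_spec le_rfl ℓ; rwa [resM_self] at this
  have hc : hm.gen'.coef le_rfl (hm.gen.coef le_rfl ℓ • ℓ') • m' = hm.gen.coef le_rfl ℓ • ℓ' := by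
    have := hm.gen'.coef_spec le_rfl (hm.gen.coef le_rfl ℓ • ℓ'); rwa [resM_self] at this
  have h1 : pairing e U m (hm.gen.coef le_rfl ℓ • ℓ') = 1 := by
    rw [pairing_smul_right, ← pairing_smul_left, ha, h.one]
  rw [← hc, pairing_smul_right, hm.one, mul_one] at h1
  rwa [h1, one_smul] at hc

variable (e)

/-- Paired generators exist near every point. -/
theorem exists_paired (hL : PicF.IsInvertible L) (hL' : PicF.IsInvertible L') (y : Y) :
    ∃ (U : Y.affineOpens) (ℓ : Γ(L, U.1)) (ℓ' : Γ(L', U.1)), y ∈ U.1 ∧ Paired e U.1 ℓ ℓ' := by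
  obtain ⟨U₁, hy₁, s, hs⟩ := exists_isGen hL y
  obtain ⟨U₂, hy₂, t, ht⟩ := exists_isGen hL' y
  obtain ⟨W, hW, hyW, hWle⟩ := exists_isAffineOpen_mem_and_subset (U := U₁ ⊓ U₂) (x := y) ⟨hy₁, hy₂⟩
  have h1 : W ≤ U₁ := fun a ha => (hWle ha).1
  have h2 : W ≤ U₂ := fun a ha => (hWle ha).2
  have hℓ := hs.restrict h1
  have hm := ht.restrict h2
  have hg := isGen_tmul hℓ hm
  obtain ⟨r, hr⟩ := (hg W le_rfl).2 (e.inv.app W (show Γ(Coh.structureModule Y, W) from (1 : Γ(Y, W))))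
  have hr' : r * pairing e W (resM L h1 s) (resM L' h2 t) = 1 := by
    rw [← pairing_smul_left, pairing, tmul_smul_left]
    simp only [resM_self] at hr
    rw [hr, ← ConcreteCategory.comp_apply, ← Scheme.Modules.Hom.comp_app, Iso.inv_hom_id]
    rfl
  refine ⟨⟨W, hW⟩, _, r • _, hyW, hℓ, hm.smul_unit (IsUnit.unit (IsUnit.of_mul_eq_one _ hr')), ?_⟩
  rw [pairing_smul_right]
  exact hr'

section
variable {𝒮 𝒮h : RelProj.QCGrAlg Y} {j : L ⟶ 𝒮.toModule} [Coh.IsQCoh L] [Coh.IsQCoh L']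
  {ι : 𝒮.toQCAlg ⟶ 𝒮h.toQCAlg} {z : 𝒮h.presheaf.obj (op ⊤)}
  (hS : RelProj.IsGrSymAlg L 𝒮 j) (hz : RelCone.IsPolyOver 𝒮 𝒮h ι z)

include hS hz in
/-- A ring map on the sections of the cone with prescribed values. -/
theorem exists_hom_h {U : Y.Opens} (hU : IsAffineOpen U) {ℓ : Γ(L, U)} (hℓ : IsGen L U ℓ) {C : Type u} [CommRing C]
    (φ : Γ(Y, U) →+* C) (a b : C) :
    ∃ f : 𝒮h.presheaf.obj (op U) →+* C, (∀ r, f ((𝒮h.str.app (op U)).hom r) = φ r) ∧
      f (lin j ι U ℓ) = a ∧ f (RelCone.restrictTop 𝒮h z U) = b := by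
  let co : Γ(L, U) → Γ(Y, U) := fun e => hℓ.coef le_rfl e
  obtain ⟨g, hg0, hg1⟩ := SymAlgLib.exists_sectionsHom hS.1 hU φ
    (AddMonoidHom.mk' (fun e => φ (co e) * a) fun x y => by
      show φ (co (x + y)) * a = _
      rw [← add_mul, ← map_add]; exact congrArg (fun c => φ c * a) (hℓ.coef_add _ _ _))
    (fun r e => by
      show φ (co (r • e)) * a = _ * (φ (co e) * a)
      rw [← mul_assoc, ← map_mul]; exact congrArg (fun c => φ c * a) (hℓ.coef_smul _ _ _))
  let ev := (Polynomial.eval₂RingHom g b).comp (hz.polyEquiv U hU).symm.toRingHom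
  have hC : ∀ x, ev ((ι.hom.app (op U)).hom x) = g x := fun x => by
    have h : (hz.polyEquiv U hU).symm ((ι.hom.app (op U)).hom x) = Polynomial.C x := by
      rw [RingEquiv.symm_apply_eq, RelCone.IsPolyOver.polyEquiv_apply, Polynomial.eval₂_C]
    show Polynomial.eval₂ g _ ((hz.polyEquiv U hU).symm _) = _
    rw [h, Polynomial.eval₂_C]
  refine ⟨ev, fun r => ?_, ?_, ?_⟩
  · rw [← hg0 r, ← hC]
    exact congrArg ev (ConcreteCategory.congr_hom (NatTrans.congr_app ι.comm (op U)) r).symm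
  · refine (hC _).trans ((hg1 ℓ).trans ?_)
    show φ (co ℓ) * a = a
    rw [show co ℓ = 1 from hℓ.coef_eq le_rfl (by rw [resM_self, one_smul]), map_one, one_mul]
  · have h : (hz.polyEquiv U hU).symm (RelCone.restrictTop 𝒮h z U) = Polynomial.X := by
      rw [RingEquiv.symm_apply_eq, RelCone.IsPolyOver.polyEquiv_apply, Polynomial.eval₂_X]
    show Polynomial.eval₂ g _ ((hz.polyEquiv U hU).symm _) = _
    rw [h, Polynomial.eval₂_X]

include hS hz in
/-- Homogeneous sections are combinations of monomials in the two coordinates. -/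
theorem exists_deg_h_eq {U : Y.Opens} (hU : IsAffineOpen U) {ℓ : Γ(L, U)} (hℓ : IsGen L U ℓ) {k : ℕ}
    {y : 𝒮h.presheaf.obj (op U)} (hy : y ∈ 𝒮h.deg U hU k) :
    ∃ c : ℕ → Γ(Y, U), y = ∑ i ∈ Finset.range (k + 1),
      (𝒮h.str.app (op U)).hom (c i) * lin j ι U ℓ ^ i * RelCone.restrictTop 𝒮h z U ^ (k - i) := by
  obtain ⟨x, hx, e⟩ := exists_decomp (RelProj.gradedHomAt ι hz.graded U hU) (hz.deg_z U hU) (hz.bij U hU) hy
  choose c hc using fun i => exists_deg_eq hS hU hℓ (hx i)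
  refine ⟨c, e.trans (Finset.sum_congr rfl fun i _ => congrArg (· * RelCone.restrictTop 𝒮h z U ^ (k - i)) ?_)⟩
  rw [hc i]
  show (ι.hom.app (op U)).hom (_ * _ ^ i) = _
  rw [map_mul, map_pow]
  exact congrArg (· * _) (ConcreteCategory.congr_hom (NatTrans.congr_app ι.comm (op U)) (c i))

include hS hz in
/-- Two ring maps differing by a factor on the coordinates differ by its powers. -/
theorem deg_scale {U : Y.Opens} (hU : IsAffineOpen U) {ℓ : Γ(L, U)} (hℓ : IsGen L U ℓ) {C : Type u} [CommRing C]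
    {f g : 𝒮h.presheaf.obj (op U) →+* C} (v : C)
    (h0 : ∀ r, f ((𝒮h.str.app (op U)).hom r) = g ((𝒮h.str.app (op U)).hom r))
    (h1 : f (lin j ι U ℓ) = v * g (lin j ι U ℓ))
    (h2 : f (RelCone.restrictTop 𝒮h z U) = v * g (RelCone.restrictTop 𝒮h z U)) (k : ℕ)
    (y : 𝒮h.presheaf.obj (op U)) (hy : y ∈ 𝒮h.deg U hU k) : f y = v ^ k * g y := by
  obtain ⟨c, rfl⟩ := exists_deg_h_eq hS hz hU hℓ hy
  rw [map_sum, map_sum, Finset.mul_sum]
  refine Finset.sum_congr rfl fun i hi => ?_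
  rw [Finset.mem_range] at hi
  simp only [map_mul, map_pow, h0, h1, h2, mul_pow]
  rw [← pow_mul_pow_sub v (show i ≤ k by omega)]
  ring

end

theorem restrictTop_res (𝒮h : RelProj.QCGrAlg Y) (z : 𝒮h.presheaf.obj (op ⊤)) {U V : Y.Opens} (h : V ≤ U) :
    (𝒮h.presheaf.map (homOfLE h).op).hom (RelCone.restrictTop 𝒮h z U) = RelCone.restrictTop 𝒮h z V := by
  unfold RelCone.restrictTop
  rw [← ConcreteCategory.comp_apply, ← Functor.map_comp]
  rfl

theorem str_res (𝒜 : RelSpec.QCAlg Y) {U V : Y.Opens} (h : V ≤ U) (r : Γ(Y, U)) :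
    (𝒜.presheaf.map (homOfLE h).op).hom ((𝒜.str.app (op U)).hom r) = (𝒜.str.app (op V)).hom (res h r) :=
  (ConcreteCategory.congr_hom (𝒜.str.naturality (homOfLE h).op) r).symm

end Groth.Agent.ConeLine13
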