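import Mathlib

/-!
# Morphisms to `Proj` given by a ring map making a degree-one element invertible
-/

set_option autoImplicit false
set_option linter.unusedSectionVars false

universe u

open CategoryTheory AlgebraicGeometry HomogeneousLocalization

namespace Groth.Agent.ConeLine13

variable {σ A : Type u} [CommRing A] [SetLike σ A] [AddSubgroupClass σ A] {𝒜 : ℕ → σ} [GradedRing 𝒜]
variable {B : Type u} [CommRing B] (ev : A →+* B) {T : A} (hu : IsUnit (ev T))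

variable (𝒜) in
/-- The map induced on the degree-zero part. -/
noncomputable def θ : Away 𝒜 T →+* B :=
  (Localization.awayLift ev T hu).comp (algebraMap (Away 𝒜 T) (Localization.Away T))

theorem θ_val (q : Away 𝒜 T) : θ 𝒜 ev hu q = Localization.awayLift ev T hu q.val := rfl

theorem θ_mul_pow (q : Away 𝒜 T) (y : A) (k : ℕ)
    (h : q.val = Localization.mk y ⟨T ^ k, pow_mem (Submonoid.mem_powers T) k⟩) :
    θ 𝒜 ev hu q * ev T ^ k = ev y := by
  rw [θ_val, h, ← map_pow]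
  have h1 : Localization.awayLift ev T hu (algebraMap A (Localization.Away T) (T ^ k)) = ev (T ^ k) :=
    IsLocalization.lift_eq _ _
  rw [← h1, ← map_mul, Localization.mk_eq_mk', IsLocalization.mk'_spec]
  exact IsLocalization.lift_eq _ _

variable (hT : T ∈ 𝒜 1)

theorem θ_mk (k : ℕ) (y : A) (hy : y ∈ 𝒜 (k • 1)) :
    θ 𝒜 ev hu (Away.mk 𝒜 hT k y hy) * ev T ^ k = ev y :=
  θ_mul_pow ev hu _ y k (Away.val_mk ..)

/-- The morphism to `Proj`. -/
noncomputable def ptMap : Spec (CommRingCat.of B) ⟶ Proj 𝒜 :=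
  Spec.map (CommRingCat.ofHom (θ 𝒜 ev hu)) ≫ Proj.awayι 𝒜 T hT one_pos

/-- Functoriality in the target ring. -/
theorem specMap_ptMap {B' : Type u} [CommRing B'] (f : B →+* B') :
    Spec.map (CommRingCat.ofHom f) ≫ ptMap ev hu hT = ptMap (f.comp ev) (hu.map f) hT := by
  rw [ptMap, ← Category.assoc, ← Spec.map_comp]
  refine congrArg (fun g => Spec.map g ≫ Proj.awayι 𝒜 T hT one_pos) ?_
  ext q
  obtain ⟨k, y, hy, rfl⟩ := Away.mk_surjective 𝒜 hT q
  show f (θ 𝒜 ev hu (Away.mk 𝒜 hT k y hy)) = θ 𝒜 (f.comp ev) (hu.map f) (Away.mk 𝒜 hT k y hy)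
  refine ((hu.map f).pow k).mul_right_cancel ?_
  rw [← map_pow, ← map_mul, θ_mk ev hu hT k y hy, map_pow]
  exact (θ_mk (f.comp ev) (hu.map f) hT k y hy).symm

/-- The morphism does not change when the ring map is twisted by degrees and the element changed. -/
theorem ptMap_eq_of_scale (ev' : A →+* B) {T' : A} (hT' : T' ∈ 𝒜 1) (hu' : IsUnit (ev' T')) (v : B)
    (h : ∀ (k : ℕ) (y : A), y ∈ 𝒜 k → ev' y = v ^ k * ev y) :
    ptMap ev hu hT = ptMap ev' hu' hT' := by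
  have e1 : ev' T' = v * ev T' := by simpa using h 1 T' hT'
  have hv : IsUnit v := isUnit_of_mul_isUnit_left (e1 ▸ hu')
  have hu2 : IsUnit (ev T') := isUnit_of_mul_isUnit_right (e1 ▸ hu')
  have hx : IsUnit (ev (T * T')) := by rw [map_mul]; exact hu.mul hu2
  have hTT : T * T' ∈ 𝒜 (1 + 1) := SetLike.mul_mem_graded hT hT'
  have k1 : (θ 𝒜 ev hx).comp (awayMap 𝒜 hT' (rfl : T * T' = T * T')) = θ 𝒜 ev hu := by
    ext q
    obtain ⟨k, y, hy, rfl⟩ := Away.mk_surjective 𝒜 hT q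
    refine (hx.pow k).mul_right_cancel ?_
    rw [RingHom.comp_apply, θ_mul_pow ev hx _ (y * T' ^ k) k (val_awayMap_mk 𝒜 hT' rfl _ _ k _), map_mul,
      map_mul, mul_pow, ← mul_assoc, θ_mk ev hu hT k y hy, map_pow]
  have k2 : (θ 𝒜 ev hx).comp (awayMap 𝒜 hT (mul_comm T T' : T * T' = T' * T)) = θ 𝒜 ev' hu' := by
    ext q
    obtain ⟨k, y, hy, rfl⟩ := Away.mk_surjective 𝒜 hT' q
    have h1 := θ_mk ev' hu' hT' k y hy
    rw [h k y (by simpa using hy), e1, mul_pow, mul_left_comm] at h1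
    replace h1 := (hv.pow k).mul_left_cancel h1
    refine (hx.pow k).mul_right_cancel ?_
    rw [RingHom.comp_apply, θ_mul_pow ev hx _ (y * T ^ k) k (val_awayMap_mk 𝒜 hT _ _ _ k _), map_mul, map_mul,
      map_pow, mul_pow, mul_comm (ev T ^ k) (ev T' ^ k), ← mul_assoc, h1]
  unfold ptMap
  rw [← k1, ← k2, CommRingCat.ofHom_comp, CommRingCat.ofHom_comp, Spec.map_comp, Spec.map_comp, Category.assoc,
    Category.assoc, Proj.SpecMap_awayMap_awayι, Proj.SpecMap_awayMap_awayι]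

/-- Compatibility with maps of graded rings. -/
theorem ptMap_map {τ A' : Type u} [CommRing A'] [SetLike τ A'] [AddSubgroupClass τ A'] {𝒜' : ℕ → τ}
    [GradedRing 𝒜'] (ψ : 𝒜 →+*ᵍ 𝒜') (hirr : (HomogeneousIdeal.irrelevant 𝒜') ≤ (HomogeneousIdeal.irrelevant 𝒜).map ψ)
    (ev' : A' →+* B) (hu' : IsUnit (ev' (ψ T))) :
    ptMap ev' hu' (ψ.2 hT) ≫ Proj.map ψ hirr = ptMap (ev'.comp ψ.toRingHom) hu' hT := by
  unfold ptMap
  rw [Category.assoc, Proj.awayι_comp_map ψ hirr one_pos T hT, ← Category.assoc, ← Spec.map_comp]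
  refine congrArg (fun g => Spec.map g ≫ Proj.awayι 𝒜 T hT one_pos) ?_
  ext q
  obtain ⟨k, y, hy, rfl⟩ := Away.mk_surjective 𝒜 hT q
  show θ 𝒜' ev' hu' (Away.map ψ T (Away.mk 𝒜 hT k y hy)) = θ 𝒜 (ev'.comp ψ.toRingHom) hu' (Away.mk 𝒜 hT k y hy)
  refine (hu'.pow k).mul_right_cancel ?_
  rw [Away.map_mk]
  exact (θ_mk ev' hu' (ψ.2 hT) k (ψ y) _).trans (θ_mk (ev'.comp ψ.toRingHom) hu' hT k y hy).symm

end Groth.Agent.ConeLine13
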